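import Mathlib
import Cfsg.Prelude.Def_Spor_Fi22
import Cfsg.Agent.F24T.Co
import Cfsg.Agent.J4T.Base

/-!
Groups of large Fischer type: codes for the letters in the coordinates of `J4T`, and the stages of the
identification.
-/

set_option autoImplicit false

namespace Cfsg.Agent.F24T

open Cfsg.Agent.Spor Cfsg.Agent.Spor.TT Cfsg.Agent.Spor.MB Cfsg.Agent.Cl Cfsg.Agent.J4T Subgroup
open scoped Pointwise

/-- Codes of the letters `p`, `s1 .. s5`, `u1 .. u4` and of one further element. -/
def cF (i : ℕ) : ℕ := List.getD [nat_lit 0x200300020030002003000600200060020006002,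
  nat_lit 0xc40f30fb036c304a03f007001c002002007e015, nat_lit 0x207a02846032005803800200200060010006001,
  nat_lit 0x204201024621246631200260210020020004003, nat_lit 0x3802400400300040030002002001600d0006001,
  nat_lit 0x8008008008003e0250000a00a009008c004003, nat_lit 0xc0ad0aa42b12a04a01a00400100040010004001,
  nat_lit 0x405103c46011005801400400100040010004001, nat_lit 0x4039024422122852c1e80400100040010004001,
  nat_lit 0xc0c50b046011004001000400100040010004001, nat_lit 0xf8d68bf66b61a4da1d62e75925c9ef8ac004001] i aid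

/-- Codes (as in `TT.dec`) of the vectors of `𝔽₄⁶` that belong to the generators of `Q`. -/
def bV (k : ℕ) : ℕ := List.getD [5, 10, 4005, 1530, 3920, 1440, 2535, 1950, 2528, 1936, 2016, 3728] k 0

/-- The code of the vector that belongs to the element of `Q` with code `x`. -/
def Bc (x : ℕ) : ℕ := xorN (fun k => Nat.mul (Nat.land (Nat.shiftRight x k) 1) (bV k)) 12

variable {G : Type*} [Group G]

/-- The centraliser of `z` modulo `z` in coordinates. -/
structure StX (z : G) (g l : ℕ → G) : Prop where
  q : StQ z g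
  co : ∃ π act, Co z (QG g) (l 0) π act ∧ ∀ k < 12, π (g k) = dec (bV k)
  rp : ∀ i < 11, Rp z g (l i) (cF i)

/-- The letters `l 6 .. l 9` are normalised: the elements of `V` not conjugate to `z` are the duads. -/
structure StO (z : G) (g l : ℕ → G) : Prop where
  x : StX z g l
  fus : ∀ x < 2048, x ≠ 0 → (IsConj z (vv z g l x) ↔ dua x = false)

/-- The normaliser of `V` acts on `V` as `M24` on the even cocode. -/
structure StS (z : G) (g l : ℕ → G) (σ : normalizer (VG z g l : Set G) →* PG) : Prop where
  o : StO z g l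
  range : σ.range = M24
  act : ∀ n : normalizer (VG z g l : Set G), ∀ s : Finset GolayPt, Even s.card →
    (n : G) * ZG z g l s * (n : G)⁻¹ = ZG z g l (σ n • s)
  ker : ∀ n, σ n = 1 ↔ (n : G) ∈ VG z g l
  sl : ∀ i < 6, ∀ n : normalizer (VG z g l : Set G), (n : G) = l i → σ n = toPerm (sL i)
  be : ∀ k < 6, ∀ n : normalizer (VG z g l : Set G), (n : G) = g (k + 6) → σ n = toPerm (beL k)

/-- The centraliser of the four-group generated by `t` and `u` is a perfect central extension of `U₆(2)`. -/
structure StU (t u : G) : Prop where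
  tt : t * t = 1
  uu : u * u = 1
  comm : Commute t u
  t1 : t ≠ 1
  u1 : u ≠ 1
  ne : t ≠ u
  perf : ⁅centralizer ({t, u} : Set G), centralizer ({t, u} : Set G)⁆ = centralizer ({t, u} : Set G)
  iso : ∃ f : centralizer ({t, u} : Set G) →* PSU 6 GF4 2, Function.Surjective f ∧
    ∀ x, f x = 1 ↔ (x : G) ∈ closure ({t, u} : Set G)

/-- The derived group of the centraliser of `t`. -/
def KK (t : G) : Subgroup G := ⁅centralizer ({t} : Set G), centralizer ({t} : Set G)⁆

/-- The centraliser of `t` is a double cover of the automorphism group of `Fi₂₂`. -/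
structure StK (t : G) : Prop where
  tt : t * t = 1
  t1 : t ≠ 1
  idx : (KK t).relIndex (centralizer ({t} : Set G)) = 2
  perf : ⁅KK t, KK t⁆ = KK t
  mem : t ∈ KK t
  iso : ∃ f : KK t →* Cfsg.Spor.Fi22, Function.Surjective f ∧ ∀ x, f x = 1 ↔ (x : G) = 1 ∨ (x : G) = t
  cK : ∀ c, (∀ k ∈ KK t, k * c * k⁻¹ * c⁻¹ = 1 ∨ k * c * k⁻¹ * c⁻¹ = t) → Commute t c → c = 1 ∨ c = t

/-- The data from which the group is identified with `Fi₂₄′`. -/
structure Am (z t u : G) : Prop where
  k : StK t
  e : StU t u
  c1 : IsConj t u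
  c2 : IsConj t (t * u)
  zz : z * z = 1
  z1 : z ≠ 1
  zt : Commute z t
  nc : ¬ IsConj z t
  top : ∀ M : Subgroup G, centralizer ({t} : Set G) ≤ M →
    (∀ x ∈ M, IsConj t x → ∃ m ∈ M, m * t * m⁻¹ = x) → centralizer ({z} : Set G) ≤ M

end Cfsg.Agent.F24T
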