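import Mathlib
import Cfsg.Agent.F24T.VBA
import Cfsg.Agent.J4T.VBB

/-!
The normaliser of `V` in the centraliser of `z`.
-/

set_option autoImplicit false

namespace Cfsg.Agent.F24T.VB

open Cfsg.Agent.Spor Cfsg.Agent.Spor.TT Cfsg.Agent.Spor.MB Cfsg.Agent.J4T Subgroup
open Cfsg.Agent.J4T.VB (uw uw_lt vq_lt vv_mem z_mem g_mem l_mem nt)
open scoped Pointwise

variable {G : Type*} [Group G]

/-- The word with hexadecimal digits `n`. -/
noncomputable def wd (f : ℕ) : ℕ → List ℕ :=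
  Nat.rec (fun _ => []) (fun _ ih n => Bool.rec (Nat.pred (Nat.land n 15) :: ih (Nat.shiftRight n 4)) []
    (Nat.beq n 0)) f

/-- Coset representatives for the stabiliser of `W`. -/
noncomputable def rr (i : ℕ) : List ℕ := Spor.force (getP 32 4294967295 (nat_lit 0xb2ba4b43b2b5ab56b2b5a6b2b2b256b2b2b24ab4b27b569bb25b56b7b25b56b4b25b4b26b25b49b7b25b46b6b25b4693b25b467bb25b439bb25b2b58b25b2b57b25b28b9b25b27bab25b27b7b25b26b6b25b26b5b25b26b4b25b26b2b25b267bb25b23b9b25b23b7b25b23b5b257b5b8b257b5b2b257b4b7b257b4b6b257b2b9b256b5b7b256b4b9b256b4b7b2567b5bb2567b4bb2567b43b2567b2bb24b5a6bb24b56b9b24b47bab24b2abab24b25bab24b25b6b24b25b4b24b25b2b24b25abb24b257bb24b23b7b24b2359b24b2358b24b2354b247b5b7b247b57bb247b569b247b567b247b4b2b247b43bb247b2b5b23b956bb23b5b47b23b5b2ab23b5b24b23b5ab2b23b567bb23b54b9b23b54b2b23b546bb23b4babb23b4b8ab23b4b2ab23b47b4b235b5b4b235b5abb235b57bb235b4b9b235b4b8b235b493b235b47bb235b43bb235b438b235b2bab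235b2b9b235b27bb235b273b235b25bb235b257b235b24bb235465a0b5b2b2b0b5b2b290b5b2b230b5b28ba0b5b28b90b5b28b70b5b28b40b5b27ba0b5b27b90b5b27b70b5b23b70b5b23b40b5b23b20b57b2b90b57b2b50b57b2b40b56b2b50b56b2b40b56b2b20b4b2b5a0b4b2b590b4b2b570b4b2b2b0b4b2b2a0b4b28b50b4b28b40b4b27b50b4b26b50b4b26b40b4b25ba0b4b25b90b4b25b70b4b25b50b4b25b40b4b25b20b4b257b0b43b25b0b2ba4b70b2ba4b40b2ba4b20b2b95ba0b2b95b90b2b95b70b2b95b50b2b95b20b2b956b0b2b65b20b2b5b840b2b5b780b2b5b4b0b2b5b470b2b5b430b2b5ab80b2b5ab70b2b5ab50b2b5a6b0b2b59b70b2b59b40b2b59b20b2b56b20b2b569b0b2b4bab0b2b4b8a0b2b4b890b2b4b840b2b4b7a0b2b4b780b2b4b650b2b4b5b0b2b4b580b2b4b570b2b4b560b2b4aba0b2b4ab90b2b4ab70b2b4ab50b2b4ab20b2b49ba0b2b49b90b2b49b70b2b49b40b2b48ba0b2b48b50b2b46b70b2b46b50b2b43ba0b2b43b50b2b43b40b2b2a4b0b2b25b90b2b25b70b2b25b50b2b25b20b2b25ab0b2b25a60b2b259b0b2b256b0b2b25690b2b24ba0b2b24b70b2b24b50b2b24b40b2b24b20b2b24ab0b27b5b80b27b5b20b27b5ab0b27b5a60b27b59b0b27b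56b0b27b5690b27b4b90b27b4b20b27b4ab0b25b95b0b25b65b0b25b5ba0b25b5b80b25b5b70b25b57b0b25b56b0b25b5650b25b4ba0b25b4b90b25b4b80b25b4b60b25b4b20b25b4ab0b25b49b0b25b4930b25b47b0b25b46b0b25b4690b25b4670b25b43b0b25b4390b25b4380b25b4360b25b2b90b25b2b80b25b2b70b25b2b60b25b2b50b25b2b20b25b28b0b25b27b0b25b26b0b25b2680b25b2670b25b24b0b25b2460b25b23b0b25b2380b257b5b0b257b4b0b257b430b257b2b0b256b5b0b256b4b0b256b430b256b2b0b256b250b256b230b2567b50b2567b40b2567b20b24ba4b0b24ba430b24b5ba0b24b5b90b24b5b40b24b5b20b24b5ab0b24b5a60b24b59b0b24b57b0b24b56b0b24b5670b24b4b90b24b4b70b24b4b60b24b47b0b24b43b0b24b4380b24b2ba0b24b2b70b24b2b60b24b2b50b24b2b40b24b2b20b24b2ab0b24b27b0b24b25b0b24b25a0b24b2570b24b23b0b24b23a0b24b2380b24b2350b247b7a0b247b5b0b247b590b247b570b247b560b247b4b0b247b430b247b2b0b247b230b23b95b0b23b9560b23b5ba0b23b5b70b23b5b40b23b5b20b23b5ab0b23b5a60b23b57b0b23b5670b23b54b0b23b5460b23b4ba0b23b4b80b23b4b50b23b4b20b23b47b0b23b45b0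b235b5b0b235b5a0b235b570b235b560b235b4b0b235b490b235b470b235b430b235b2b0b235b270b235b250b235b240b235b230b2354690b23546500b5b2ba00b5b2b900b5b2b700b5b2b200b5b28b00b5b27b00b5b23b00b57b2b00b56b2b00b4b2ba00b4b2b900b4b2b700b4b2b500b4b2b200b4b28b00b4b27b00b4b26b00b4b25b00b4b25700b43b2500b2ba4b00b2b95b00b2b95600b2b65b00b2b5b800b2b5b700b2b5b400b2b5ab00b2b5a600b2b59b00b2b56b00b2b56900b2b56500b2b4ba00b2b4b900b2b4b800b2b4b700b2b4b600b2b4b500b2b4ab00b2b49b00b2b48b00b2b46b00b2b43b00b2b2a400b2b25b00b2b25a00b2b25900b2b25600b2b24b00b2b24a00b27ba400b27b5b00b27b5a00b27b5900b27b5600b27b4b00b27b4a00b27b4300b25b9500b25b6900b25b6700b25b6500b25b5b00b25b5700b25b5600b25b4b00b25b4a00b25b4900b25b4700b25b4600b25b4300b25b2b00b25b2800b25b2700b25b2600b25b2400b25b2300b257b900b257b700b257b500b257b400b257b200b256b600b256b500b256b400b256b200b2567b00b24ba400b24b7a00b24b5b00b24b5a00b24b5900b24b5700b24b5600b24b4b00b24b4700b24b4300b24b2b00b24b2a00b24b2700b24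b2500b24b2300b247ba00b247b700b247b500b247b400b247b200b23b9500b23b7a00b23b5b00b23b5a00b23b5700b23b5600b23b5400b23b4b00b23b4700b23b4500b235b900b235b700b235b500b235b400b235b200b2356800b2354b00b2354900b23546000b5b2b000b5b28000b5b27000b5b23000b57b2000b56b2000b4b57000b4b2b000b4b29000b4b28000b4b27000b4b26000b4b25000b47ba000b43b7000b43b5000b43b4000b43b2000b2ba4000b2b9a000b2b95000b2b6a000b2b65000b2b5b000b2b5a000b2b59000b2b56000b2b4b000b2b4a000b2b49000b2b48000b2b46000b2b43000b2b2a000b2b25000b2b24000b27ba000b27b5000b27b4000b25b9000b25b8000b25b7000b25b6000b25b5000b25b4000b25b2000b257b000b256b000b2567000b24ba000b24b7000b24b5000b24b4000b24b2000b247b000b23ba000b23b9000b23b7000b23b5000b23b4000b235b000b2358000b2356000b23540000b5b70000b5b20000b57b0000b56b0000b5670000b4b90000b4b70000b4b60000b4b50000b4b20000b47b0000b43b0000b4380000b2ba0000b2b90000b2b60000b2b50000b2b40000b2b20000b27b0000b25b0000b2570000b2560000b24b0000b2470000b23b0000b2380000b23500000b5b00000b5700000b5600000b4b00000b4700000b4300000b2b00000b2700000b2500000b2400000b23000000b7000000b5000000b4000000b20000000b00000000)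 i) (wd 8)

/-- Coset representatives along a chain of stabilisers of vectors of `W`. -/
noncomputable def ch (m i : ℕ) : List ℕ := Spor.force (getP 32 4294967295 (nat_lit 0x34635463004635460000635600000000000000000000000000000000000000000000000000000000000000000000000000000000000000000000000000000000000000000000000000000000000000000000000000000000000000000000000000000000003435430001343500014543000054650000435400005463000034630000013600000415000001540000013400000413000000460000003500000000000000000000000000000000000000000000000000000000000000000000000000000000000000000000000000000000000000000000000000000000000000000000000300000000001234560021345600023456000123450002134500002345000012340000213400000234000001230000021300000023000000120000002100000004000000020000000100000000) (18 * m + i)) (wd 8)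

/-- The indices in the chain. -/
def cn (m : ℕ) : ℕ := List.getD [18, 2, 15, 1, 4, 1] m 0

/-- The image of `V ⊓ Q` as a set of codes. -/
noncomputable def key (c : ℕ) : ℕ :=
  Spor.force c fun c => orN (fun a => Nat.shiftLeft 1 (app c (a % 64 + 4096 * (a / 64)))) 128

/-- The code of the element of `V` with code `b`. -/
noncomputable def vcd (b : ℕ) : ℕ := amul (inn (vq b)) (aev cF (uw (b / 64 % 16)))

theorem step {A B : Subgroup G} [Finite A] (h : B ≤ A) {r : ℕ → G} {n : ℕ} (hr : ∀ i < n, r i ∈ A)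
    (hd : ∀ i < n, ∀ j < n, (r j)⁻¹ * r i ∈ B → i = j) : n * Nat.card B ≤ Nat.card A := by
  have h1 : Function.Injective fun x : Fin n × B => (⟨r x.1 * x.2, mul_mem (hr _ x.1.2) (h x.2.2)⟩ : A) := by
    rintro ⟨i, a⟩ ⟨j, b⟩ e
    have e1 : r i * a = r j * b := congrArg Subtype.val e
    obtain rfl : i = j := Fin.ext (hd _ i.2 _ j.2 (by
      rw [show (r j)⁻¹ * r i = b * (a : G)⁻¹ by rw [inv_mul_eq_iff_eq_mul, ← mul_assoc, ← e1, mul_inv_cancel_right]]
      exact mul_mem b.2 (inv_mem a.2)))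
    rw [Subtype.ext (mul_left_cancel e1 : (a : G) = b)]
  simpa only [Nat.card_prod, Nat.card_fin] using Nat.card_le_card_of_injective _ h1

theorem inj_of_distinct {k : ℕ → ℕ} {n : ℕ} (h : distinct k n (List.range n) = true) {i j : ℕ} (hi : i < n) (hj : j < n)
    (e : k i = k j) : i = j :=
  List.inj_on_of_nodup_map (distinct_spec h).1 (List.mem_range.2 hi) (List.mem_range.2 hj) e

theorem testBit_key (c y : ℕ) : (key c).testBit y = true ↔ ∃ a < 8192, a / 64 % 64 = 0 ∧ app c a = y := by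
  rw [key, Spor.force_eq, testBit_orN]
  simp only [Nat.shiftLeft_eq', Nat.one_shiftLeft, Nat.testBit_two_pow, decide_eq_true_eq]
  exact ⟨fun ⟨a, h1, h2⟩ => ⟨_, by omega, by omega, h2⟩, fun ⟨a, h1, h2, h3⟩ =>
    ⟨a % 64 + 64 * (a / 4096), by omega, by rw [← h3]; congr 1; omega⟩⟩

theorem rr_lt : allRange 0 567 (fun i => lettersLt 11 (rr i)) = true := by decide +kernel

theorem rr_inj : distinct (fun i => key (aev cF (rr i))) 567 (List.range 567) = true := by decide +kernel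

theorem ch_ok : ∀ m < 6, (∀ i < cn m, lettersLt 10 (ch m i) = true ∧ lettersLt 11 (ch m i) = true ∧
    ∀ k < m, img (aev cF (ch m i)) k % 4096 = 2 ^ k) ∧
    distinct (fun i => img (aev cF (ch m i)) m % 4096) (cn m) (List.range (cn m)) = true := by decide +kernel

theorem nt_ok : ∀ x < 22, ∀ j < 4, amul (if x < 12 then inn (2 ^ x) else cF (x - 12)) (cF (6 + j)) =
    amul (vcd (nt x j)) (if x < 12 then inn (2 ^ x) else cF (x - 12)) := by decide +kernel

/-- The elements of `C(z)` that fix the first `m` generators up to sign. -/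
def Fx {z : G} {g : ℕ → G} (h : StQ z g) (m : ℕ) : Subgroup G where
  carrier := {x | x * z = z * x ∧ ∀ k < m, x * g k * x⁻¹ = g k ∨ x * g k * x⁻¹ = z * g k}
  one_mem' := ⟨by rw [one_mul, mul_one], fun k _ => Or.inl (by group)⟩
  mul_mem' := by
    rintro x y ⟨h1, h2⟩ ⟨h3, h4⟩
    refine ⟨by rw [mul_assoc, h3, ← mul_assoc, h1, mul_assoc], fun k hk => ?_⟩
    have e : x * (z * g k) * x⁻¹ = z * (x * g k * x⁻¹) := by rw [← mul_assoc, h1]; group
    rw [show x * y * g k * (x * y)⁻¹ = x * (y * g k * y⁻¹) * x⁻¹ by group]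
    rcases h4 k hk with a | a <;> rw [a]
    · exact h2 k hk
    · rw [e]
      exact (h2 k hk).symm.imp (fun b => by rw [b, ← mul_assoc, h.z_sq, one_mul]) fun b => by rw [b]
  inv_mem' := by
    rintro x ⟨h1, h2⟩
    have h3 : x⁻¹ * z = z * x⁻¹ := Commute.inv_left h1
    refine ⟨h3, fun k hk => (h2 k hk).imp (fun a => ?_) fun a => ?_⟩
    · conv_lhs => rw [← a]
      group
    · have : z * (x⁻¹ * g k * x⁻¹⁻¹) = g k := by
        rw [← mul_assoc, ← mul_assoc, ← h3, mul_assoc x⁻¹, ← a]; group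
      conv_rhs => rw [← this, ← mul_assoc, h.z_sq, one_mul]

theorem mod_iff {z : G} {g : ℕ → G} (h : StQ z g) {a b : ℕ} (ha : a < 8192) (hb : b < 8192) :
    (qv z g a = qv z g b ∨ qv z g a = z * qv z g b) ↔ a % 4096 = b % 4096 := by
  have h1 : b ^^^ 4096 < 8192 := Nat.xor_lt_two_pow (n := 13) hb (by norm_num)
  have h2 : (b ^^^ 4096) % 4096 = b % 4096 := by
    rw [show 4096 = 2 ^ 12 from rfl, Nat.xor_mod_two_pow, Nat.mod_self, Nat.xor_zero]
  rw [← h.qv_xor hb]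
  refine ⟨fun e => e.elim (fun e => by rw [h.qv_inj ha hb e]) fun e => by rw [h.qv_inj ha h1 e, h2], fun e => ?_⟩
  refine (eq_or_of_bits ha hb fun k hk => ?_).imp (congrArg _) (congrArg _)
  have := congrArg (Nat.testBit · k) e
  simpa only [show 4096 = 2 ^ 12 from rfl, Nat.testBit_mod_two_pow, hk, decide_true, Bool.true_and] using this

theorem mem_Fx {z x : G} {g : ℕ → G} (h : StQ z g) {m c : ℕ} (hm : m ≤ 12) (hx : Rp z g x c) :
    x ∈ Fx h m ↔ ∀ k < m, img c k % 4096 = 2 ^ k := by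
  refine (and_iff_right hx.1).trans (forall₂_congr fun k hk => ?_)
  rw [hx.2.2 k (by omega), ← h.qv_gen (z := z) (by omega : k < 12), mod_iff h (img_lt _ _) (two_pow_lt (by omega)),
    Nat.mod_eq_of_lt (Nat.pow_lt_pow_right (a := 2) (n := 12) (by norm_num) (by omega))]

theorem inv_mul_mem_Fx {z x y : G} {g : ℕ → G} (h : StQ z g) {m a b : ℕ} (hm : m ≤ 12) (hx : Rp z g x a)
    (hy : Rp z g y b) : y⁻¹ * x ∈ Fx h m ↔ ∀ k < m, img a k % 4096 = img b k % 4096 := by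
  refine (and_iff_right ((Commute.inv_left hy.1).mul_left hx.1).eq).trans (forall₂_congr fun k hk => ?_)
  rw [← mod_iff h (img_lt _ _) (img_lt _ _), ← hx.2.2 k (by omega), ← hy.2.2 k (by omega),
    show y⁻¹ * x * g k * (y⁻¹ * x)⁻¹ = y⁻¹ * (x * g k * x⁻¹ * y) by group]
  generalize x * g k * x⁻¹ = w
  rw [inv_mul_eq_iff_eq_mul, inv_mul_eq_iff_eq_mul, ← eq_mul_inv_iff_mul_eq, ← eq_mul_inv_iff_mul_eq, ← mul_assoc y z,
    hy.1]
  simp only [mul_assoc]

variable {z : G} {g l : ℕ → G} (s : StX z g l)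

include s

theorem rp_vv {a : ℕ} (ha : a < 2048) : Rp z g (vv z g l a) (vcd a) := by
  rw [vv_eq s ha]
  exact s.q.rp_mul (s.q.rp_qv (vq_lt a)) (rw s (uw_lt _ (Nat.mod_lt _ (by norm_num))))

theorem A_le : QG g ⊔ genLt l 10 ≤ centralizer ({z} : Set G) :=
  sup_le (Q_le s) (genLt_le fun i hi => lH s (by omega))

theorem conj_le {x : G} {c : ℕ} (hx : Rp z g x c) (h1 : ∀ k < 6, img c k / 64 % 64 = 0)
    (h2 : ∀ j < 4, ∃ b < 2048, amul c (cF (6 + j)) = amul (vcd b) c) {v : G} (hv : v ∈ VG z g l) :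
    x * v * x⁻¹ ∈ VG z g l := by
  refine genLt_le (K := (VG z g l).comap (MulAut.conj x).toMonoidHom) (fun k hk => ?_) hv
  change x * vg z g l k * x⁻¹ ∈ VG z g l
  unfold vg
  split_ifs with h3 h4
  · rw [hx.2.2 k (by omega), qv_mem_V s (img_lt _ _)]
    exact h1 k h3
  · obtain ⟨b, hb, e⟩ := h2 (k - 6) (by omega)
    rw [show 6 + (k - 6) = k by omega] at e
    rcases rp_eq_or s (s.q.rp_mul (rp_vv s hb) hx) (e ▸ s.q.rp_mul hx (s.rp k hk)) with e1 | e1 <;> rw [e1]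
    · rw [mul_inv_cancel_right]; exact vv_mem b
    · rw [mul_assoc _ x, hx.1, ← mul_assoc, mul_inv_cancel_right]
      exact mul_mem (vv_mem b) z_mem
  · rw [hx.1, mul_inv_cancel_right]; exact z_mem

theorem QV_le_Fx : QG g ⊔ VG z g l ≤ Fx s.q 6 :=
  sup_le (fun q hq => ⟨(s.q.es2.z_comm q hq).symm, fun k hk => s.q.es2.aes.conj_eq hq (mem_genLt g (by omega))⟩)
    fun v hv => ⟨V_comm s hv z_mem, fun k hk => Or.inl (by rw [V_comm s hv (g_mem hk), mul_inv_cancel_right])⟩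

theorem V_le_A : VG z g l ≤ QG g ⊔ genLt l 10 := genLt_le fun k hk => by
  unfold vg
  split_ifs with h1 h2
  exacts [mem_sup_left (mem_genLt g (by omega)), mem_sup_right (mem_genLt l h2), mem_sup_left s.q.z_mem]

theorem mem_QV {x : G} (hx : x ∈ QG g ⊔ VG z g l) : ∃ a < 8192, ∃ u < 16, x = qv z g a * evalW l (uw u) := by
  have h1 : VG z g l ≤ normalizer (QG g : Set G) := fun v hv => norm_Q s (V_comm s hv z_mem)
  have h2 : x ∈ ((QG g : Set G) * (VG z g l : Set G)) := by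
    rw [← coe_mul_of_right_le_normalizer_left _ _ h1]; exact hx
  obtain ⟨q, hq, v, hv, rfl⟩ := h2
  obtain ⟨a, ha, rfl⟩ := s.q.mem_QG.1 hq
  obtain ⟨b, hb, rfl⟩ := (mem_VG s).1 hv
  exact ⟨_, qmul_lt ha (vq_lt b), _, Nat.mod_lt _ (by norm_num), by
    rw [s.q.qv_mul ha (vq_lt b), mul_assoc, ← vv_eq s hb]⟩

theorem uw_mem {u : ℕ} (hu : u < 16) : evalW l (uw u) ∈ VG z g l := by
  have h := vv_eq s (a := 64 * u) (by omega)
  rw [show 64 * u / 64 % 16 = u by omega, show vq (64 * u) = 0 by clear h; revert u; decide +kernel, s.q.qv_zero,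
    one_mul] at h
  exact h ▸ vv_mem _

variable [Finite G]

theorem A_le_norm : QG g ⊔ genLt l 10 ≤ normalizer (VG z g l : Set G) := by
  have h1 : ∀ x < 22, ∀ k < 6, img (if x < 12 then inn (2 ^ x) else cF (x - 12)) k / 64 % 64 = 0 := by decide +kernel
  have h2 : ∀ x j, nt x j < 2048 := fun x j => lt_of_le_of_lt Nat.and_le_right (by norm_num)
  have h3 : ∀ x < 22, ∀ y, Rp z g y (if x < 12 then inn (2 ^ x) else cF (x - 12)) →
      y ∈ normalizer (VG z g l : Set G) := fun x hx y hy => mem_normalizer_fintype fun v hv =>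
    conj_le s hy (h1 x hx) (fun j hj => ⟨_, h2 x j, nt_ok x hx j hj⟩) hv
  refine sup_le (genLt_le fun k hk => h3 k (by omega) _ ?_) (genLt_le fun k hk => h3 (k + 12) (by omega) _ ?_)
  · rw [if_pos hk, ← s.q.qv_gen hk]
    exact s.q.rp_qv (two_pow_lt hk)
  · rw [if_neg (by omega), Nat.add_sub_cancel]
    exact s.rp k (by omega)

theorem mem_S {x : G} (hx : x * z = z * x) (h : ∀ k < 6, x * g k * x⁻¹ ∈ VG z g l) :
    x ∈ centralizer ({z} : Set G) ⊓ normalizer ((VG z g l ⊓ QG g : Subgroup G) : Set G) := by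
  refine ⟨mem_centralizer_singleton_iff.2 hx, mem_normalizer_fintype fun v hv => ⟨?_, nQ s x hx v hv.2⟩⟩
  obtain ⟨b, hb, rfl⟩ := s.q.mem_QG.1 hv.2
  have h4 := (qv_mem_V s hb).1 hv.1
  have h5 : genLt g 6 ⊔ zpowers z ≤ (VG z g l).comap (MulAut.conj x).toMonoidHom :=
    sup_le (genLt_le h) (zpowers_le.2 (by
      change _ * z * _ ∈ VG z g l
      rw [hx, mul_inv_cancel_right]; exact z_mem))
  refine h5 (mul_mem (mem_sup_right (by split_ifs; exacts [mem_zpowers z, one_mem _])) (mem_sup_left ?_))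
  rw [show 12 = 6 + 6 from rfl, gp_add, gp_bits (fun k => g (k + 6)) (b := 0) fun i hi => ?_, gp_zero, mul_one]
  · exact gp_mem (fun i hi => mem_genLt g hi) b
  · rw [← h4, show 64 = 2 ^ 6 from rfl, Nat.testBit_mod_two_pow, Nat.shiftRight_eq_div_pow]; simp [hi]

theorem card_S : 567 * Nat.card ↥(centralizer ({z} : Set G) ⊓ normalizer ((VG z g l ⊓ QG g : Subgroup G) : Set G)) ≤
    2 ^ 13 * 19595520 := by
  have h0 := fun i hi => rw s (allRange_zero rr_lt i hi)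
  have h1 : ∀ {x y : G} {a b : ℕ}, Rp z g x a → Rp z g y b →
      y⁻¹ * x ∈ normalizer ((VG z g l ⊓ QG g : Subgroup G) : Set G) →
      ∀ n, (key a).testBit n = true → (key b).testBit n = true := fun {x y a b} hx hy h n hn => by
    obtain ⟨c, h2, h3, rfl⟩ := (testBit_key _ _).1 hn
    have h4 := (mem_normalizer_iff.1 h _).1 (⟨(qv_mem_V s h2).2 h3, s.q.qv_mem c⟩ : qv z g c ∈ VG z g l ⊓ QG g)
    obtain ⟨d, h5, e⟩ := s.q.mem_QG.1 h4.2
    refine (testBit_key _ _).2 ⟨d, h5, (qv_mem_V s h5).1 (e ▸ h4.1), s.q.qv_inj (app_lt _ _) (app_lt _ _) ?_⟩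
    rw [← s.q.rp_app hy h5, ← s.q.rp_app hx h2, e]; group
  rw [← card_H s]
  refine step inf_le_left (fun i hi => mem_centralizer_singleton_iff.2 (h0 i hi).1) fun i hi j hj e =>
    inj_of_distinct rr_inj hi hj (Nat.eq_of_testBit_eq fun n => Bool.eq_iff_iff.2
      ⟨h1 (h0 i hi) (h0 j hj) e.2 n, h1 (h0 j hj) (h0 i hi) ?_ n⟩)
  simpa only [mul_inv_rev, inv_inv] using inv_mem (mem_inf.1 e).2

theorem card_chain {X : Subgroup G} (h : QG g ⊔ genLt l 10 ≤ X) : 2160 * Nat.card ↥(X ⊓ Fx s.q 6) ≤ Nat.card X := by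
  have h1 : ∀ m < 6, cn m * Nat.card ↥(X ⊓ Fx s.q (m + 1)) ≤ Nat.card ↥(X ⊓ Fx s.q m) := fun m hm => by
    obtain ⟨k1, k2⟩ := ch_ok m hm
    have k0 : Fx s.q (m + 1) ≤ Fx s.q m := fun x hx => ⟨hx.1, fun k hk => hx.2 k (by omega)⟩
    refine step (inf_le_inf_left _ k0) (r := fun i => evalW l (ch m i))
      (fun i hi => ⟨h (mem_sup_right (evalW_mem_genLt l (k1 i hi).1)),
        (mem_Fx s.q (by omega) (rw s (k1 i hi).2.1)).2 (k1 i hi).2.2⟩) fun i hi j hj e => inj_of_distinct k2 hi hj ?_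
    exact (inv_mul_mem_Fx s.q (by omega) (rw s (k1 i hi).2.1) (rw s (k1 j hj).2.1)).1 e.2 m (by omega)
  have h0 : Nat.card ↥(X ⊓ Fx s.q 0) ≤ Nat.card X := card_le_of_le inf_le_left
  have a0 := h1 0 (by norm_num)
  have a1 := h1 1 (by norm_num)
  have a2 := h1 2 (by norm_num)
  have a3 := h1 3 (by norm_num)
  have a4 := h1 4 (by norm_num)
  have a5 := h1 5 (by norm_num)
  simp only [cn, List.getD_cons_succ, List.getD_cons_zero, Nat.reduceAdd] at a0 a1 a2 a3 a4 a5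
  omega

theorem le_card_QV : 2 ^ 17 ≤ Nat.card ↥(QG g ⊔ VG z g l) := by
  have h1 : ∀ i < 16, ∀ j < 16, 64 * j ^^^ 64 * i < 2048 ∧ ((64 * j ^^^ 64 * i) / 64 % 16 = 0 → i = j) := by
    decide +kernel
  have h := step (le_sup_left : QG g ≤ QG g ⊔ VG z g l) (r := fun u => vv z g l (64 * u)) (n := 16)
    (fun i _ => mem_sup_right (vv_mem _)) fun i hi j hj e => (h1 i hi j hj).2 (by
      rwa [inv_eq_of_mul_eq_one_right (vv_self s _), ← vv_xor s, vv_mem_Q s (h1 i hi j hj).1] at e)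
  rw [s.q.card_QG] at h
  omega

theorem main : centralizer ({z} : Set G) ⊓ normalizer ((VG z g l ⊓ QG g : Subgroup G) : Set G) = QG g ⊔ genLt l 10 ∧
    Nat.card ↥(QG g ⊔ genLt l 10) = 283115520 ∧ Fx s.q 6 = QG g ⊔ VG z g l ∧
    Nat.card ↥(QG g ⊔ VG z g l) = 2 ^ 17 := by
  have h1 : QG g ⊔ genLt l 10 ≤ _ := fun x hx => mem_S s (mem_centralizer_singleton_iff.1 (A_le s hx)) fun k hk =>
    (mem_normalizer_iff.1 (A_le_norm s hx) _).1 (g_mem hk)
  have h2 := card_S s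
  have h3 := card_chain s le_rfl
  have h4 := card_chain s h1
  have h5 := le_card_QV s
  have h6 : Nat.card ↥(QG g ⊔ VG z g l) ≤ _ :=
    card_le_of_le (le_inf (sup_le le_sup_left (V_le_A s)) (QV_le_Fx s))
  have h7 := card_le_of_le h1
  rw [inf_eq_right.2 fun x hx => mem_S s hx.1 fun k hk => by
    rcases hx.2 k hk with e | e <;> rw [e]
    exacts [g_mem hk, mul_mem z_mem (g_mem hk)]] at h4
  have h8 := card_le_of_le (QV_le_Fx s)
  exact ⟨(eq_of_le_of_card_ge h1 (by omega)).symm, by omega, (eq_of_le_of_card_ge (QV_le_Fx s) (by omega)).symm,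
    by omega⟩

theorem mem_A {x : G} (hx : x * z = z * x) (h : ∀ k < 6, x * g k * x⁻¹ ∈ VG z g l) : x ∈ QG g ⊔ genLt l 10 :=
  (main s).1 ▸ mem_S s hx h

theorem A_eq : centralizer ({z} : Set G) ⊓ normalizer (VG z g l : Set G) = QG g ⊔ genLt l 10 :=
  le_antisymm (fun _ hx => mem_A s (mem_centralizer_singleton_iff.1 hx.1) fun _ hk =>
    (mem_normalizer_iff.1 hx.2 _).1 (g_mem hk)) (le_inf (A_le s) (A_le_norm s))

theorem card_A : Nat.card ↥(centralizer ({z} : Set G) ⊓ normalizer (VG z g l : Set G)) = 283115520 := by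
  rw [A_eq s, (main s).2.1]

theorem norm_of_rp {x : G} {c : ℕ} (hx : Rp z g x c) (h : ∀ k < 6, img c k / 64 % 64 = 0) :
    x ∈ normalizer (VG z g l : Set G) :=
  A_le_norm s (mem_A s hx.1 fun k hk => by
    rw [hx.2.2 k (by omega), qv_mem_V s (img_lt _ _)]; exact h k hk)

/-- The centraliser of `V ⊓ Q`. -/
theorem mem_V_of_comm {x : G} (hz : x * z = z * x) (h : ∀ k < 6, x * g k = g k * x) : x ∈ VG z g l := by
  obtain ⟨a, ha, u, hu, rfl⟩ := mem_QV s ((main s).2.2.1.le (⟨hz, fun k hk => Or.inl (by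
    rw [h k hk, mul_inv_cancel_right])⟩ : x ∈ Fx s.q 6))
  refine mul_mem ?_ (uw_mem s hu)
  have k3 := allRange_zero (f := fun b => bor (Nat.beq (b / 64 % 64) 0)
    (!allLt 6 fun k => Nat.beq (qmul b (2 ^ k)) (qmul (2 ^ k) b))) (len := 8192) (by decide +kernel) a ha
  rw [(allLt_iff _ _).2 fun k hk => (nbeq_iff _ _).2 (s.q.code_comm ha (two_pow_lt (by omega)) (by
    have := h k hk
    rw [mul_assoc, V_comm s (uw_mem s hu) (g_mem hk), ← mul_assoc, ← mul_assoc] at this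
    rw [s.q.qv_gen (by omega)]; exact mul_right_cancel this))] at k3
  exact (qv_mem_V s ha).2 (by simpa using k3)

theorem cent_V : centralizer (VG z g l : Set G) ≤ VG z g l := fun _ hx =>
  mem_V_of_comm s (mem_centralizer_iff.1 hx z z_mem).symm fun _ hk => (mem_centralizer_iff.1 hx _ (g_mem hk)).symm

end Cfsg.Agent.F24T.VB
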